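import Mathlib
import Groth.Agent.MultConjLib.Torus

/-! Morphisms from connected objects to separated unramified ones, and étale groups with one point. -/

set_option autoImplicit false
set_option linter.style.haveILetI false
set_option backward.isDefEq.respectTransparency false

universe u

open CategoryTheory CategoryTheory.Limits AlgebraicGeometry MonoidalCategory CartesianMonoidalCategory
open scoped MonObj

noncomputable section

namespace Groth.Agent.EtNormal

variable {S : Scheme.{u}}

theorem eq_of_point {X N : Over S} [PreconnectedSpace ↥X.left] [Nonempty ↥X.left] [IsSeparated N.hom]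
    [FormallyUnramified N.hom] [LocallyOfFiniteType N.hom] (φ ψ : X ⟶ N) {P : Over S} [Nonempty ↥P.left]
    (p : P ⟶ X) (h : p ≫ φ = p ≫ ψ) : φ = ψ := by
  let c := pullback.lift φ.left ψ.left (by rw [Over.w, Over.w])
  let E := pullback.fst c (pullback.diagonal N.hom)
  haveI : IsOpenImmersion E := MorphismProperty.pullback_fst _ _ inferInstance
  haveI : IsClosedImmersion E := MorphismProperty.pullback_fst _ _ inferInstance
  have hc : p.left ≫ c = (p.left ≫ φ.left) ≫ pullback.diagonal N.hom := by
    apply pullback.hom_ext
    · simp [c]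
    · simp only [c, Category.assoc, pullback.lift_snd, pullback.diagonal_snd, Category.comp_id]
      exact (congrArg CommaMorphism.left h).symm
  let q := pullback.lift p.left (p.left ≫ φ.left) hc
  have hne : (Set.range E).Nonempty := by
    obtain ⟨x⟩ := ‹Nonempty ↥P.left›
    exact ⟨_, q x, rfl⟩
  have hsurj : Function.Surjective E := Set.range_eq_univ.mp
    (IsClopen.eq_univ ⟨E.isClosedEmbedding.isClosed_range, E.isOpenEmbedding.isOpen_range⟩ hne)
  haveI : IsIso E := by
    haveI : Epi E.base := (TopCat.epi_iff_surjective _).mpr hsurj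
    exact IsOpenImmersion.isIso E
  have key : c = inv E ≫ pullback.snd _ _ ≫ pullback.diagonal N.hom := by
    rw [← pullback.condition, IsIso.inv_hom_id_assoc]
  refine Over.OverMorphism.ext ?_
  have h1 := congrArg (· ≫ pullback.fst _ _) key
  have h2 := congrArg (· ≫ pullback.snd _ _) key
  simp only [c, Category.assoc, pullback.lift_fst, pullback.lift_snd, pullback.diagonal_fst, pullback.diagonal_snd,
    Category.comp_id] at h1 h2
  exact h1.trans h2.symm

variable {K : Type u} [Field K]

theorem preconnected_of_isTorus (T : Over (Spec (CommRingCat.of K))) [GrpObj T] (hT : Red.IsTorus T) :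
    PreconnectedSpace ↥T.left := by
  have h := MultConjLib.neutralSet_eq_univ_of_isTorus hT
  let pt : ↥(𝟙_ (Over (Spec (CommRingCat.of K)))).left := IsLocalRing.closedPoint K
  let s := (𝟙_ (Over (Spec (CommRingCat.of K)))).hom.base pt
  have hsub : SGA3x.neutralSet T ⊆ connectedComponentIn (T.hom.base ⁻¹' {s}) (η[T].left.base pt) :=
    Set.iUnion_subset fun p => by
      have hp : p = pt := @Subsingleton.elim (PrimeSpectrum K) inferInstance p pt
      subst hp
      exact subset_rfl
  rw [h] at hsub
  refine preconnectedSpace_iff_univ.mpr ?_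
  rw [← Set.univ_subset_iff.mp hsub]
  exact isPreconnected_connectedComponentIn

theorem isTrivialGrp_of_points [IsAlgClosed K] (N : Over (Spec (CommRingCat.of K))) [GrpObj N] [Etale N.hom]
    [IsSeparated N.hom] (h : ∀ m : 𝟙_ (Over (Spec (CommRingCat.of K))) ⟶ N, m = 1) : Red.IsTrivialGrp N := by
  haveI : LocallyOfFiniteType N.hom := inferInstance
  haveI : JacobsonSpace ↥N.left := LocallyOfFiniteType.jacobsonSpace N.hom
  let e := (η[N] : 𝟙_ (Over (Spec (CommRingCat.of K))) ⟶ N).left
  have he : e ≫ N.hom = 𝟙 _ := Over.w η[N]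
  haveI : IsClosedImmersion e := by
    haveI : IsClosedImmersion (e ≫ N.hom) := by rw [he]; infer_instance
    exact IsClosedImmersion.of_comp e N.hom
  haveI : IsOpenImmersion e := by
    haveI : Etale (e ≫ N.hom) := by rw [he]; infer_instance
    haveI : Etale e := Etale.of_comp e N.hom
    exact IsOpenImmersion.of_flat_of_mono e
  have hclosed : ∀ x : N.left, IsClosed {x} → x ∈ Set.range e := by
    intro x hx
    letI : N.left.Over (Spec (CommRingCat.of K)) := ⟨N.hom⟩
    obtain ⟨m, hm⟩ : ∃ m : Spec (CommRingCat.of K) ⟶ N.left, m ≫ N.hom = 𝟙 _ ∧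
        m (IsLocalRing.closedPoint K) = x :=
      ⟨AlgebraicGeometry.pointOfClosedPoint N.hom x hx, by simp, by simp⟩
    have := h (Over.homMk m hm.1)
    refine ⟨IsLocalRing.closedPoint K, ?_⟩
    have h1 : (1 : 𝟙_ (Over (Spec (CommRingCat.of K))) ⟶ N) = η[N] := by
      rw [Hom.one_def, toUnit_unique (toUnit _) (𝟙 _), Category.id_comp]
    rw [h1] at this
    rw [← hm.2, show m = e from congrArg CommaMorphism.left this]
    rfl
  have hsurj : Function.Surjective e := by
    intro x
    by_contra hx
    have hne : (Set.range e)ᶜ.Nonempty := ⟨x, hx⟩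
    obtain ⟨y, hy, hy'⟩ := nonempty_inter_closedPoints hne e.isClosedEmbedding.isClosed_range.isOpen_compl.isLocallyClosed
    exact hy (hclosed y hy')
  haveI : IsIso e := by
    haveI : Epi e.base := (TopCat.epi_iff_surjective _).mpr hsurj
    exact IsOpenImmersion.isIso e
  show IsIso N.hom
  have : N.hom = inv e := by rw [← cancel_epi e, he, IsIso.hom_inv_id]
  rw [this]
  infer_instance

end Groth.Agent.EtNormal
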